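import Cfsg.Agent.CosetCert.Cox
import Cfsg.Agent.S0278
import Cfsg.Agent.SUPres.Small.Glue
import Cfsg.Agent.SUPres.Small.Fields

/-! Machine-generated data and checks. -/

set_option autoImplicit false
set_option maxRecDepth 100000
set_option Elab.async false

namespace Cfsg.Agent.SUPres.Small.SuThreeTwo

open Cfsg.Agent.CosetCert Cfsg.Agent.CosetEnum

/-- matrices -/
def lets : List (List (List ℕ)) :=
  [[[3, 1, 2], [2, 2, 2], [1, 3, 2]],
   [[2, 3, 1], [1, 3, 2], [3, 3, 3]],
   [[1, 3, 1], [1, 1, 3], [2, 3, 3]],
   [[1, 1, 3], [2, 1, 2], [1, 2, 2]],
   [[1, 0, 0], [0, 1, 0], [0, 0, 1]],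
   [[1, 0, 0], [0, 1, 0], [0, 0, 1]]]

/-- relators -/
def rels : List (List ℕ) :=
  [[1, 1, 3, 1, 4, 4, 2, 4], [1, 1, 3, 2, 4, 2, 3, 3], [5]]

/-- data -/
def vec0 : PTree := .leaf 0x100000000000103010000000000030203000000000002030300000000000102030000000000020101000000000003010200000000000103020000000000010201000000000002030100000000000103030000000000020203000000000001010100000000000001000000000000000200000000000002010200000000000101030000000000000003000000000001020200000000000000020000000000030302000000000003000000000000000101020000000000030303000000000003020200000000000302010000000000030103000000000002030200000000000201030000000000020000000000000002020100000000000301010000000000000300000000000003030100000000000202020000000000010000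

/-- data -/
def rank0 : PTree := .leaf 0xc0000000f0000000200000000000000210000000b0000000a00000000000000090000001d00000004000000000000000000000000000000000000000e00000020000000080000001a000000000000001800000001000000050000000000000007000000140000001e0000000000000000000000000000000000000006000000190000001c00000022000000000000001f000000110000001b00000000000000130000000d00000017000000000000000000000000000000000000000000000000000000000000000000000003000000000000000000000000000000150000000000000000000000000000001600000012000000100000002300000000

/-- data -/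
def par0 : PTree := .leaf 0x1b0100001a01000019000000170100001401000013000000120000001101000011000000100000000f0000000e0100000e0000000c0000000b0100000b0000000a0100000901000009000000080100000701000007000000060100000600000005000000040100000400000003010000030000000201000002000000010100000100000000010000000000000000

/-- orbit -/
def level0 : VLevel := ⟨[[1], [3]], 36, vec0, rank0, par0⟩

theorem level0_b0 : allB (fun r => Nat.ble 36 r || level0.ok K4.codes 3 lets r) 6 0 = true := by
  decide +kernel

theorem level0_ok : ∀ r < 36, level0.ok K4.codes 3 lets r = true := fun r hr =>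
  ((below_step (f := fun r => Nat.ble 36 r || level0.ok K4.codes 3 lets r) below_zero (fun i h hi => of_ble_or h hi) level0_b0) : ∀ i < 0 + 2 ^ 6, i < 36 → level0.ok K4.codes 3 lets i = true)
    r (lt_of_lt_of_le hr (by decide +kernel)) hr

/-- data -/
def vec1 : PTree := .leaf 0x10000000000000002000000000000000002000000000000030000000000000000030000000000000001

/-- data -/
def rank1 : PTree := .leaf 0x2000000000000000000000000000000040000000000000000000000000000000500000001000000030000000000000000

/-- data -/
def par1 : PTree := .leaf 0x2000000010100000100000000010000000000000000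

/-- orbit -/
def level1 : VLevel := ⟨[[3, 1, 3, 2], [1, 1, 1, 1, 3, 3]], 6, vec1, rank1, par1⟩

theorem level1_b0 : allB (fun r => Nat.ble 6 r || level1.ok K4.codes 3 lets r) 3 0 = true := by
  decide +kernel

theorem level1_ok : ∀ r < 6, level1.ok K4.codes 3 lets r = true := fun r hr =>
  ((below_step (f := fun r => Nat.ble 6 r || level1.ok K4.codes 3 lets r) below_zero (fun i h hi => of_ble_or h hi) level1_b0) : ∀ i < 0 + 2 ^ 3, i < 6 → level1.ok K4.codes 3 lets i = true)
    r (lt_of_lt_of_le hr (by decide +kernel)) hr

theorem case_ok : CaseOk K4.codes 3 lets rels where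
  len := by decide +kernel
  elem := by decide +kernel
  inv := by decide +kernel
  rel := by decide +kernel

theorem chain_valid : VChainValid K4.codes 3 lets [] [level0, level1] :=
  ⟨by decide +kernel, ⟨by decide +kernel, level0_ok⟩, ⟨by decide +kernel, ⟨by decide +kernel, level1_ok⟩, trivial⟩⟩

/-- `SU_3(2)` is generated by two elements. -/
theorem main {F : Type*} [Field F] [Fintype F] (hF : Fintype.card F = 2 ^ 2) :
    ∃ a b : Cfsg.SU 3 F 2, Subgroup.closure {a, b} = ⊤ := by
  obtain ⟨d, hd⟩ := K4.transport hF
  obtain ⟨G, hG0, hGinv, hGrel, hact⟩ := exists_letters hd hF case_ok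
  refine ⟨G 1, G 3, ?_⟩
  set R := Subgroup.closure ({G 1, G 3} : Set (Cfsg.SU 3 F 2))
  have h1 : G 1 ∈ R := Subgroup.subset_closure (Set.mem_insert _ _)
  have h3 : G 3 ∈ R := Subgroup.subset_closure (Set.mem_insert_of_mem _ rfl)
  have h5 : G 5 = 1 := by simpa [pval] using hGrel [5] (by decide +kernel)
  have h2 : G 2 ∈ R := (hGinv 1).symm ▸ R.inv_mem h1
  have h4 : G 4 ∈ R := (hGinv 3).symm ▸ R.inv_mem h3
  have h6 : G 6 = 1 := by simpa [h5, linv, invl] using hGinv 5
  have hR : ∀ l, G l ∈ R := by
    intro l
    rcases l with _ | _ | _ | _ | _ | _ | _ | l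
    · rw [hG0]; exact R.one_mem
    · exact h1
    · exact h2
    · exact h3
    · exact h4
    · rw [h5]; exact R.one_mem
    · rw [h6]; exact R.one_mem
    · have h := hGinv (l + 7)
      rw [show linv (l + 7) = 0 from List.getD_eq_default _ _ (by simp [invl]), hG0] at h
      rw [inv_eq_one.1 h.symm]; exact R.one_mem
  have hlow : 216 ≤ Nat.card R := by
    refine (le_of_eq ?_).trans ((vProd_le hd G hact R hR _ [] chain_valid).trans
      (Nat.card_le_card_of_injective (fun x => (⟨x.1, x.2.1⟩ : R)) fun a b h =>
        Subtype.ext (congrArg (fun z : R => (z : Cfsg.SU 3 F 2)) h)))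
    decide +kernel
  have hcard : Nat.card (Cfsg.SU 3 F 2) = 216 := by
    have h := S0278.result hF 3 (by norm_num)
    generalize Nat.card (Cfsg.SU 3 F 2) = m at h ⊢
    norm_num [Finset.prod_range_succ, Nat.even_iff] at h
    omega
  exact Subgroup.eq_top_of_card_eq _ (le_antisymm (Subgroup.card_le_card_group _) (hcard ▸ hlow))

end Cfsg.Agent.SUPres.Small.SuThreeTwo
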